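import Cfsg.Agent.Lib.CosetCert.D.J3.Tbl
import Cfsg.Agent.Lib.CosetCert.D.J3.Lv0.CT

namespace Cfsg.Agent.Lib.CosetCert.D.J3.Lv0.Tab

open Cfsg.Agent.Lib.CosetCert Cfsg.Agent.Lib.TC.Core Cfsg.Agent.Lib.TC.Enc Cfsg.Agent.Lib.TC.Pres Cfsg.Agent.Lib.TC.Perm Cfsg.Agent.Lib.TC.Main

set_option maxRecDepth 100000

open Cfsg.Agent.Lib.CosetCert.D.J3.Tbl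

/-- The chunks. -/
noncomputable def ctree : Tr Nat := Cfsg.Agent.Lib.CosetCert.D.J3.Lv0.CT.tree

/-- The relator rotations. -/
noncomputable def rotT : Tr (List Nat) := (Tr.node (Tr.node (Tr.node (Tr.node (Tr.node (Tr.node (Tr.node (Tr.node (Tr.leaf []) (Tr.leaf [0,1,0,2,0,1,0,2,0,1,0,2,0,1,0,1,0,2,0,1,0,2,0,1,0,2,0,1,0,2,0,1,0,1,0,2,0,1,0,2,0,1,0,2,0,1,0,2,0,1,0,1,0,2])) (Tr.node (Tr.leaf [2,0,2,0,2,0,2,0,1,0,1,0,1,0,1,0,1,0,2,0,2,0,2,0,2,0,2,0,2,0,1,0,1,0,1,0,1,0,1,0,2,0,2,0]) (Tr.leaf [1,0,2,0,2,0,2,0,2,0,1,0,2,0,1,0,2,0,2,0,2,0,2,0,1,0,2,0,1,0,2,0,2,0,2,0,2,0,1,0,2,0,1,0,2,0,2,0,2,0,2,0,1,0,2,0]))) (Tr.node (Tr.node (Tr.leaf [1,0,1,0,2,0,2,0,2,0,2,0,2,0,1,0,1,0,1,0,1,0,1,0,1,0,2,0,2,0,2,0,2,0,2,0,1,0,1,0,1,0,1,0])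 (Tr.leaf [1,0,2,0,2,0,1,0,2,0,1,0,2,0,1,0,2,0,1,0,2,0,2,0,1,0,2,0,1,0,2,0,1,0,2,0,1,0,2,0,2,0,1,0,2,0,1,0,2,0,1,0,2,0])) (Tr.node (Tr.leaf [2,0,1,0,2,0,1,0,1,0,2,0,1,0,1,0,2,0,1,0,2,0,2,0,1,0,2,0,1,0,1,0,2,0,1,0,1,0,2,0,1,0,2,0]) (Tr.leaf [])))) (Tr.node (Tr.node (Tr.node (Tr.leaf [0,1,0,1,0,1,0,1,0,1,0,1,0,1,0,1,0,1,0,1,0,1,0,1,0,1,0,1,0,1,0,1,0,1,0,1,0,1]) (Tr.leaf [1,0,2,0,1,0,2,0,1,0,1,0,2,0,1,0,2,0,1,0,2,0,1,0,2,0,1,0,1,0,2,0,1,0,2,0,1,0,2,0,1,0,2,0,1,0,1,0,2,0,1,0,2,0])) (Tr.node (Tr.leaf [1,0,1,0,2,0,1,0,1,0,2,0,1,0,2,0,2,0,1,0,2,0,1,0,1,0,2,0,1,0,1,0,2,0,1,0,2,0,2,0,1,0,2,0]) (Tr.leaf [0,2,0,2,0,1,0,2,0,1,0,1,0,1,0,1,0,1,0,2,0,1,0,2,0,2,0,1,0,2,0,1,0,1,0,1,0,1,0,1,0,2,0,1,0,2,0,2,0,1,0,2,0,1,0,1,0,1,0,1,0,1,0,2,0,1])))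 (Tr.node (Tr.node (Tr.leaf [1,0,1,0,1,0,1,0,2,0,2,0,2,0,2,0,2,0,1,0,1,0,1,0,1,0,1,0,1,0,2,0,2,0,2,0,2,0,2,0,1,0,1,0]) (Tr.leaf [0,1,0,1,0,2,0,1,0,2,0,1,0,1,0,1,0,1,0,2,0,1,0,2,0,1,0,1,0,1,0,1,0,2,0,1,0,2,0,1,0,1,0,1,0,1,0,2,0,1,0,2,0,1,0,1])) (Tr.node (Tr.leaf [2,0,1,0,2,0,2,0,1,0,2,0,2,0,1,0,2,0,1,0,1,0,2,0,1,0,2,0,2,0,1,0,2,0,2,0,1,0,2,0,1,0,1,0]) (Tr.leaf []))))) (Tr.node (Tr.node (Tr.node (Tr.node (Tr.leaf [2,0,1,0,2,0,1,0,2,0,1,0,2,0,1,0,2,0,1,0,2,0,1,0,2,0,1,0,2,0,1,0,2,0,1,0]) (Tr.leaf [0,1,0,2,0,1,0,1,0,2,0,1,0,2,0,1,0,2,0,1,0,2,0,1,0,1,0,2,0,1,0,2,0,1,0,2,0,1,0,2,0,1,0,1,0,2,0,1,0,2,0,1,0,2])) (Tr.node (Tr.leaf [1,0,1,0,1,0,1,0,2,0,2,0,2,0,2,0,2,0,2,0,1,0,1,0,1,0,1,0,1,0,2,0,2,0,2,0,2,0,2,0,2,0,1,0])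 (Tr.leaf [0,1,0,2,0,1,0,2,0,2,0,2,0,2,0,1,0,2,0,1,0,2,0,2,0,2,0,2,0,1,0,2,0,1,0,2,0,2,0,2,0,2,0,1,0,2,0,1,0,2,0,2,0,2,0,2]))) (Tr.node (Tr.node (Tr.leaf [2,0,2,0,2,0,1,0,1,0,1,0,1,0,1,0,1,0,2,0,2,0,2,0,2,0,2,0,1,0,1,0,1,0,1,0,1,0,1,0,2,0,2,0]) (Tr.leaf [1,0,2,0,1,0,2,0,1,0,2,0,2,0,1,0,2,0,1,0,2,0,1,0,2,0,1,0,2,0,2,0,1,0,2,0,1,0,2,0,1,0,2,0,1,0,2,0,2,0,1,0,2,0])) (Tr.node (Tr.leaf [0,1,0,2,0,2,0,1,0,2,0,1,0,1,0,2,0,1,0,1,0,2,0,1,0,2,0,2,0,1,0,2,0,1,0,1,0,2,0,1,0,1,0,2]) (Tr.leaf [])))) (Tr.node (Tr.node (Tr.node (Tr.leaf [1,0,1,0,1,0,1,0,1,0,1,0,2,0,2,0,2,0,2,0,2,0,1,0,1,0,1,0,1,0,1,0,1,0,2,0,2,0,2,0,2,0,2,0]) (Tr.leaf [2,0,1,0,2,0,1,0,2,0,1,0,2,0,2,0,1,0,2,0,1,0,2,0,1,0,2,0,1,0,2,0,2,0,1,0,2,0,1,0,2,0,1,0,2,0,1,0,2,0,2,0,1,0]))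 (Tr.node (Tr.leaf [1,0,2,0,1,0,2,0,2,0,1,0,2,0,1,0,1,0,2,0,1,0,1,0,2,0,1,0,2,0,2,0,1,0,2,0,1,0,1,0,2,0,1,0]) (Tr.leaf []))) (Tr.node (Tr.node (Tr.leaf [0,1,0,1,0,2,0,2,0,2,0,2,0,2,0,2,0,1,0,1,0,1,0,1,0,1,0,2,0,2,0,2,0,2,0,2,0,2,0,1,0,1,0,1]) (Tr.leaf [0,1,0,1,0,2,0,1,0,2,0,1,0,1,0,1,0,1,0,2,0,1,0,2,0,1,0,1,0,1,0,1,0,2,0,1,0,2,0,1,0,1,0,1,0,1,0,2,0,1,0,2,0,1,0,1])) (Tr.node (Tr.leaf [1,0,2,0,1,0,1,0,2,0,1,0,2,0,2,0,1,0,2,0,2,0,1,0,2,0,1,0,1,0,2,0,1,0,2,0,2,0,1,0,2,0,2,0]) (Tr.leaf [])))))) (Tr.node (Tr.node (Tr.node (Tr.node (Tr.node (Tr.leaf [2,2,2]) (Tr.leaf [0,1,0,2,0,1,0,2,0,1,0,1,0,2,0,1,0,2,0,1,0,2,0,1,0,2,0,1,0,1,0,2,0,1,0,2,0,1,0,2,0,1,0,2,0,1,0,1,0,2,0,1,0,2])) (Tr.node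 (Tr.leaf [2,0,2,0,1,0,1,0,1,0,1,0,1,0,2,0,2,0,2,0,2,0,2,0,2,0,1,0,1,0,1,0,1,0,1,0,2,0,2,0,2,0,2,0]) (Tr.leaf [2,0,2,0,2,0,1,0,2,0,1,0,2,0,2,0,2,0,2,0,1,0,2,0,1,0,2,0,2,0,2,0,2,0,1,0,2,0,1,0,2,0,2,0,2,0,2,0,1,0,2,0,1,0,2,0]))) (Tr.node (Tr.node (Tr.leaf [2,0,2,0,2,0,2,0,2,0,1,0,1,0,1,0,1,0,1,0,1,0,2,0,2,0,2,0,2,0,2,0,1,0,1,0,1,0,1,0,1,0,1,0]) (Tr.leaf [2,0,1,0,2,0,1,0,2,0,1,0,2,0,1,0,2,0,2,0,1,0,2,0,1,0,2,0,1,0,2,0,1,0,2,0,2,0,1,0,2,0,1,0,2,0,1,0,2,0,1,0,2,0])) (Tr.node (Tr.leaf [2,0,1,0,1,0,2,0,1,0,1,0,2,0,1,0,2,0,2,0,1,0,2,0,1,0,1,0,2,0,1,0,1,0,2,0,1,0,2,0,2,0,1,0]) (Tr.leaf [])))) (Tr.node (Tr.node (Tr.node (Tr.leaf [2,0,2,0,2,0,2,0,2,0,2,0,2,0,2,0,2,0,2,0,2,0,2,0,2,0,2,0,2,0,2,0,2,0,2,0,2,0])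 (Tr.leaf [0,1,0,2,0,1,0,2,0,1,0,1,0,2,0,1,0,2,0,1,0,2,0,1,0,2,0,1,0,1,0,2,0,1,0,2,0,1,0,2,0,1,0,2,0,1,0,1,0,2,0,1,0,2])) (Tr.node (Tr.leaf [2,0,1,0,1,0,2,0,1,0,2,0,2,0,1,0,2,0,1,0,1,0,2,0,1,0,1,0,2,0,1,0,2,0,2,0,1,0,2,0,1,0,1,0]) (Tr.leaf [0,0]))) (Tr.node (Tr.node (Tr.leaf [1,0,1,0,1,0,1,0,1,0,2,0,2,0,2,0,2,0,2,0,2,0,1,0,1,0,1,0,1,0,1,0,2,0,2,0,2,0,2,0,2,0,2,0]) (Tr.leaf [0,1,0,2,0,1,0,1,0,1,0,1,0,2,0,1,0,2,0,1,0,1,0,1,0,1,0,2,0,1,0,2,0,1,0,1,0,1,0,1,0,2,0,1,0,2,0,1,0,1,0,1,0,1,0,2])) (Tr.node (Tr.leaf [2,0,1,0,2,0,2,0,1,0,2,0,1,0,1,0,2,0,1,0,2,0,2,0,1,0,2,0,2,0,1,0,2,0,1,0,1,0,2,0,1,0,2,0]) (Tr.leaf []))))) (Tr.node (Tr.node (Tr.node (Tr.node (Tr.leaf [2,0,1,0,2,0,1,0,2,0,1,0,2,0,1,0,2,0,1,0,2,0,1,0,2,0,1,0,2,0,1,0,2,0,1,0])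 (Tr.leaf [0,1,0,1,0,2,0,1,0,2,0,1,0,2,0,1,0,2,0,1,0,1,0,2,0,1,0,2,0,1,0,2,0,1,0,2,0,1,0,1,0,2,0,1,0,2,0,1,0,2,0,1,0,2])) (Tr.node (Tr.leaf [0,2,0,2,0,2,0,1,0,1,0,1,0,1,0,1,0,2,0,2,0,2,0,2,0,2,0,2,0,1,0,1,0,1,0,1,0,1,0,2,0,2,0,2]) (Tr.leaf [2,0,1,0,2,0,2,0,2,0,2,0,1,0,2,0,1,0,2,0,2,0,2,0,2,0,1,0,2,0,1,0,2,0,2,0,2,0,2,0,1,0,2,0,1,0,2,0,2,0,2,0,2,0,1,0]))) (Tr.node (Tr.node (Tr.leaf [2,0,1,0,1,0,1,0,1,0,1,0,1,0,2,0,2,0,2,0,2,0,2,0,1,0,1,0,1,0,1,0,1,0,1,0,2,0,2,0,2,0,2,0]) (Tr.leaf [2,0,1,0,2,0,2,0,1,0,2,0,1,0,2,0,1,0,2,0,1,0,2,0,2,0,1,0,2,0,1,0,2,0,1,0,2,0,1,0,2,0,2,0,1,0,2,0,1,0,2,0,1,0])) (Tr.node (Tr.leaf [0,1,0,1,0,2,0,1,0,2,0,2,0,1,0,2,0,2,0,1,0,2,0,1,0,1,0,2,0,1,0,2,0,2,0,1,0,2,0,2,0,1,0,2])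 (Tr.leaf [])))) (Tr.node (Tr.node (Tr.node (Tr.leaf [1,0,1,0,1,0,1,0,2,0,2,0,2,0,2,0,2,0,1,0,1,0,1,0,1,0,1,0,1,0,2,0,2,0,2,0,2,0,2,0,1,0,1,0]) (Tr.leaf [1,0,2,0,1,0,2,0,2,0,1,0,2,0,1,0,2,0,1,0,2,0,1,0,2,0,2,0,1,0,2,0,1,0,2,0,1,0,2,0,1,0,2,0,2,0,1,0,2,0,1,0,2,0])) (Tr.node (Tr.leaf [1,0,2,0,2,0,1,0,2,0,1,0,1,0,2,0,1,0,1,0,2,0,1,0,2,0,2,0,1,0,2,0,1,0,1,0,2,0,1,0,1,0,2,0]) (Tr.leaf []))) (Tr.node (Tr.node (Tr.leaf [2,0,2,0,2,0,2,0,2,0,2,0,1,0,1,0,1,0,1,0,1,0,2,0,2,0,2,0,2,0,2,0,2,0,1,0,1,0,1,0,1,0,1,0]) (Tr.leaf [1,0,2,0,1,0,1,0,1,0,1,0,2,0,1,0,2,0,1,0,1,0,1,0,1,0,2,0,1,0,2,0,1,0,1,0,1,0,1,0,2,0,1,0,2,0,1,0,1,0,1,0,1,0,2,0])) (Tr.node (Tr.leaf [0,1,0,2,0,1,0,2,0,1,0,2,0,1,0,2,0,1,0,1,0,2,0,1,0,2,0,1,0,2,0,1,0,2,0,1,0,1,0,2,0,1,0,2,0,1,0,2,0,1,0,2,0,1])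 (Tr.leaf []))))))) (Tr.node (Tr.node (Tr.node (Tr.node (Tr.node (Tr.node (Tr.leaf [1,1,1]) (Tr.leaf [0,2,0,1,0,2,0,1,0,2,0,1,0,1,0,2,0,1,0,2,0,1,0,2,0,1,0,2,0,1,0,1,0,2,0,1,0,2,0,1,0,2,0,1,0,2,0,1,0,1,0,2,0,1])) (Tr.node (Tr.leaf [2,0,2,0,2,0,1,0,1,0,1,0,1,0,1,0,2,0,2,0,2,0,2,0,2,0,2,0,1,0,1,0,1,0,1,0,1,0,2,0,2,0,2,0]) (Tr.leaf [2,0,2,0,2,0,2,0,1,0,2,0,1,0,2,0,2,0,2,0,2,0,1,0,2,0,1,0,2,0,2,0,2,0,2,0,1,0,2,0,1,0,2,0,2,0,2,0,2,0,1,0,2,0,1,0]))) (Tr.node (Tr.node (Tr.leaf [1,0,2,0,2,0,2,0,2,0,2,0,1,0,1,0,1,0,1,0,1,0,1,0,2,0,2,0,2,0,2,0,2,0,1,0,1,0,1,0,1,0,1,0]) (Tr.leaf [2,0,2,0,1,0,2,0,1,0,2,0,1,0,2,0,1,0,2,0,2,0,1,0,2,0,1,0,2,0,1,0,2,0,1,0,2,0,2,0,1,0,2,0,1,0,2,0,1,0,2,0,1,0]))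 (Tr.node (Tr.leaf [1,0,2,0,1,0,1,0,2,0,1,0,1,0,2,0,1,0,2,0,2,0,1,0,2,0,1,0,1,0,2,0,1,0,1,0,2,0,1,0,2,0,2,0]) (Tr.leaf [])))) (Tr.node (Tr.node (Tr.node (Tr.leaf [1,0,1,0,1,0,1,0,1,0,1,0,1,0,1,0,1,0,1,0,1,0,1,0,1,0,1,0,1,0,1,0,1,0,1,0,1,0]) (Tr.leaf [0,1,0,1,0,2,0,1,0,2,0,1,0,2,0,1,0,2,0,1,0,1,0,2,0,1,0,2,0,1,0,2,0,1,0,2,0,1,0,1,0,2,0,1,0,2,0,1,0,2,0,1,0,2])) (Tr.node (Tr.leaf [1,0,2,0,1,0,1,0,2,0,1,0,2,0,2,0,1,0,2,0,1,0,1,0,2,0,1,0,1,0,2,0,1,0,2,0,2,0,1,0,2,0,1,0]) (Tr.leaf [1,0,1,0,1,0,2,0,1,0,2,0,2,0,1,0,2,0,1,0,1,0,1,0,1,0,1,0,2,0,1,0,2,0,2,0,1,0,2,0,1,0,1,0,1,0,1,0,1,0,2,0,1,0,2,0,2,0,1,0,2,0,1,0,1,0]))) (Tr.node (Tr.node (Tr.leaf [2,0,2,0,2,0,1,0,1,0,1,0,1,0,1,0,1,0,2,0,2,0,2,0,2,0,2,0,1,0,1,0,1,0,1,0,1,0,1,0,2,0,2,0])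 (Tr.leaf [1,0,2,0,1,0,2,0,1,0,1,0,1,0,1,0,2,0,1,0,2,0,1,0,1,0,1,0,1,0,2,0,1,0,2,0,1,0,1,0,1,0,1,0,2,0,1,0,2,0,1,0,1,0,1,0])) (Tr.node (Tr.leaf [1,0,2,0,2,0,1,0,2,0,2,0,1,0,2,0,1,0,1,0,2,0,1,0,2,0,2,0,1,0,2,0,2,0,1,0,2,0,1,0,1,0,2,0]) (Tr.leaf []))))) (Tr.node (Tr.node (Tr.node (Tr.node (Tr.leaf [1,0,2,0,1,0,2,0,1,0,2,0,1,0,2,0,1,0,2,0,1,0,2,0,1,0,2,0,1,0,2,0,1,0,2,0]) (Tr.leaf [0,2,0,1,0,1,0,2,0,1,0,2,0,1,0,2,0,1,0,2,0,1,0,1,0,2,0,1,0,2,0,1,0,2,0,1,0,2,0,1,0,1,0,2,0,1,0,2,0,1,0,2,0,1])) (Tr.node (Tr.leaf [0,1,0,2,0,2,0,2,0,2,0,2,0,2,0,1,0,1,0,1,0,1,0,1,0,2,0,2,0,2,0,2,0,2,0,2,0,1,0,1,0,1,0,1]) (Tr.leaf [0,2,0,2,0,2,0,1,0,2,0,1,0,2,0,2,0,2,0,2,0,1,0,2,0,1,0,2,0,2,0,2,0,2,0,1,0,2,0,1,0,2,0,2,0,2,0,2,0,1,0,2,0,1,0,2])))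 (Tr.node (Tr.node (Tr.leaf [2,0,2,0,1,0,1,0,1,0,1,0,1,0,1,0,2,0,2,0,2,0,2,0,2,0,1,0,1,0,1,0,1,0,1,0,1,0,2,0,2,0,2,0]) (Tr.leaf [0,2,0,1,0,2,0,1,0,2,0,1,0,2,0,2,0,1,0,2,0,1,0,2,0,1,0,2,0,1,0,2,0,2,0,1,0,2,0,1,0,2,0,1,0,2,0,1,0,2,0,2,0,1])) (Tr.node (Tr.leaf [0,2,0,1,0,1,0,2,0,1,0,2,0,2,0,1,0,2,0,2,0,1,0,2,0,1,0,1,0,2,0,1,0,2,0,2,0,1,0,2,0,2,0,1]) (Tr.leaf [])))) (Tr.node (Tr.node (Tr.node (Tr.leaf [1,0,1,0,1,0,1,0,1,0,2,0,2,0,2,0,2,0,2,0,1,0,1,0,1,0,1,0,1,0,1,0,2,0,2,0,2,0,2,0,2,0,1,0]) (Tr.leaf [2,0,1,0,2,0,1,0,2,0,2,0,1,0,2,0,1,0,2,0,1,0,2,0,1,0,2,0,2,0,1,0,2,0,1,0,2,0,1,0,2,0,1,0,2,0,2,0,1,0,2,0,1,0])) (Tr.node (Tr.leaf [2,0,1,0,2,0,2,0,1,0,2,0,1,0,1,0,2,0,1,0,1,0,2,0,1,0,2,0,2,0,1,0,2,0,1,0,1,0,2,0,1,0,1,0])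 (Tr.leaf []))) (Tr.node (Tr.node (Tr.leaf [1,0,2,0,2,0,2,0,2,0,2,0,2,0,1,0,1,0,1,0,1,0,1,0,2,0,2,0,2,0,2,0,2,0,2,0,1,0,1,0,1,0,1,0]) (Tr.leaf [0,2,0,1,0,1,0,1,0,1,0,2,0,1,0,2,0,1,0,1,0,1,0,1,0,2,0,1,0,2,0,1,0,1,0,1,0,1,0,2,0,1,0,2,0,1,0,1,0,1,0,1,0,2,0,1])) (Tr.node (Tr.leaf [0,2,0,1,0,2,0,2,0,1,0,2,0,1,0,1,0,2,0,1,0,2,0,2,0,1,0,2,0,2,0,1,0,2,0,1,0,1,0,2,0,1,0,2]) (Tr.leaf [])))))) (Tr.node (Tr.node (Tr.node (Tr.node (Tr.node (Tr.leaf [1,0,2,0,1,0,2,0,1,0,2,0,1,0,2,0,1,0,2,0,1,0,2,0,1,0,2,0,1,0,2,0,1,0,2,0]) (Tr.leaf [0,2,0,1,0,2,0,1,0,1,0,2,0,1,0,2,0,1,0,2,0,1,0,2,0,1,0,1,0,2,0,1,0,2,0,1,0,2,0,1,0,2,0,1,0,1,0,2,0,1,0,2,0,1])) (Tr.node (Tr.leaf [0,1,0,1,0,1,0,1,0,1,0,2,0,2,0,2,0,2,0,2,0,2,0,1,0,1,0,1,0,1,0,1,0,2,0,2,0,2,0,2,0,2,0,2])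 (Tr.leaf [2,0,2,0,1,0,2,0,1,0,2,0,2,0,2,0,2,0,1,0,2,0,1,0,2,0,2,0,2,0,2,0,1,0,2,0,1,0,2,0,2,0,2,0,2,0,1,0,2,0,1,0,2,0,2,0]))) (Tr.node (Tr.node (Tr.leaf [2,0,2,0,2,0,2,0,1,0,1,0,1,0,1,0,1,0,1,0,2,0,2,0,2,0,2,0,2,0,1,0,1,0,1,0,1,0,1,0,1,0,2,0]) (Tr.leaf [1,0,2,0,1,0,2,0,1,0,2,0,1,0,2,0,2,0,1,0,2,0,1,0,2,0,1,0,2,0,1,0,2,0,2,0,1,0,2,0,1,0,2,0,1,0,2,0,1,0,2,0,2,0])) (Tr.node (Tr.leaf [0,2,0,1,0,1,0,2,0,1,0,2,0,2,0,1,0,2,0,1,0,1,0,2,0,1,0,1,0,2,0,1,0,2,0,2,0,1,0,2,0,1,0,1]) (Tr.leaf [])))) (Tr.node (Tr.node (Tr.node (Tr.leaf [2,0,2,0,2,0,2,0,2,0,2,0,2,0,2,0,2,0,2,0,2,0,2,0,2,0,2,0,2,0,2,0,2,0,2,0,2,0]) (Tr.leaf [2,0,1,0,1,0,2,0,1,0,2,0,1,0,2,0,1,0,2,0,1,0,1,0,2,0,1,0,2,0,1,0,2,0,1,0,2,0,1,0,1,0,2,0,1,0,2,0,1,0,2,0,1,0]))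 (Tr.node (Tr.leaf [1,0,1,0,2,0,1,0,2,0,2,0,1,0,2,0,1,0,1,0,2,0,1,0,1,0,2,0,1,0,2,0,2,0,1,0,2,0,1,0,1,0,2,0]) (Tr.leaf [2,1]))) (Tr.node (Tr.node (Tr.leaf [1,0,1,0,1,0,1,0,2,0,2,0,2,0,2,0,2,0,2,0,1,0,1,0,1,0,1,0,1,0,2,0,2,0,2,0,2,0,2,0,2,0,1,0]) (Tr.leaf [0,2,0,1,0,1,0,1,0,1,0,2,0,1,0,2,0,1,0,1,0,1,0,1,0,2,0,1,0,2,0,1,0,1,0,1,0,1,0,2,0,1,0,2,0,1,0,1,0,1,0,1,0,2,0,1])) (Tr.node (Tr.leaf [2,0,2,0,1,0,2,0,1,0,1,0,2,0,1,0,2,0,2,0,1,0,2,0,2,0,1,0,2,0,1,0,1,0,2,0,1,0,2,0,2,0,1,0]) (Tr.leaf []))))) (Tr.node (Tr.node (Tr.node (Tr.node (Tr.leaf [2,0,1,0,2,0,1,0,2,0,1,0,2,0,1,0,2,0,1,0,2,0,1,0,2,0,1,0,2,0,1,0,2,0,1,0]) (Tr.leaf [0,2,0,1,0,2,0,1,0,2,0,1,0,1,0,2,0,1,0,2,0,1,0,2,0,1,0,2,0,1,0,1,0,2,0,1,0,2,0,1,0,2,0,1,0,2,0,1,0,1,0,2,0,1]))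 (Tr.node (Tr.leaf [2,0,2,0,1,0,1,0,1,0,1,0,1,0,2,0,2,0,2,0,2,0,2,0,2,0,1,0,1,0,1,0,1,0,1,0,2,0,2,0,2,0,2,0]) (Tr.leaf [0,1,0,1,0,1,0,2,0,1,0,2,0,2,0,1,0,2,0,1,0,1,0,1,0,1,0,1,0,2,0,1,0,2,0,2,0,1,0,2,0,1,0,1,0,1,0,1,0,1,0,2,0,1,0,2,0,2,0,1,0,2,0,1,0,1]))) (Tr.node (Tr.node (Tr.leaf [1,0,1,0,1,0,1,0,1,0,2,0,2,0,2,0,2,0,2,0,1,0,1,0,1,0,1,0,1,0,1,0,2,0,2,0,2,0,2,0,2,0,1,0]) (Tr.leaf [0,1,0,1,0,1,0,2,0,1,0,2,0,1,0,1,0,1,0,1,0,2,0,1,0,2,0,1,0,1,0,1,0,1,0,2,0,1,0,2,0,1,0,1,0,1,0,1,0,2,0,1,0,2,0,1])) (Tr.node (Tr.leaf [1,0,2,0,1,0,2,0,2,0,1,0,2,0,2,0,1,0,2,0,1,0,1,0,2,0,1,0,2,0,2,0,1,0,2,0,2,0,1,0,2,0,1,0]) (Tr.leaf [])))) (Tr.node (Tr.node (Tr.node (Tr.leaf [1,0,1,0,1,0,2,0,2,0,2,0,2,0,2,0,1,0,1,0,1,0,1,0,1,0,1,0,2,0,2,0,2,0,2,0,2,0,1,0,1,0,1,0])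 (Tr.leaf [2,0,1,0,2,0,2,0,1,0,2,0,1,0,2,0,1,0,2,0,1,0,2,0,2,0,1,0,2,0,1,0,2,0,1,0,2,0,1,0,2,0,2,0,1,0,2,0,1,0,2,0,1,0])) (Tr.node (Tr.leaf [2,0,2,0,1,0,2,0,1,0,1,0,2,0,1,0,1,0,2,0,1,0,2,0,2,0,1,0,2,0,1,0,1,0,2,0,1,0,1,0,2,0,1,0]) (Tr.leaf []))) (Tr.node (Tr.node (Tr.leaf [2,0,2,0,2,0,2,0,2,0,1,0,1,0,1,0,1,0,1,0,2,0,2,0,2,0,2,0,2,0,2,0,1,0,1,0,1,0,1,0,1,0,2,0]) (Tr.leaf [0,2,0,1,0,2,0,2,0,2,0,2,0,1,0,2,0,1,0,2,0,2,0,2,0,2,0,1,0,2,0,1,0,2,0,2,0,2,0,2,0,1,0,2,0,1,0,2,0,2,0,2,0,2,0,1])) (Tr.node (Tr.leaf [0,2,0,1,0,2,0,1,0,2,0,1,0,2,0,1,0,1,0,2,0,1,0,2,0,1,0,2,0,1,0,2,0,1,0,1,0,2,0,1,0,2,0,1,0,2,0,1,0,2,0,1,0,1]) (Tr.leaf [])))))))) (Tr.node (Tr.node (Tr.node (Tr.node (Tr.node (Tr.node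 (Tr.node (Tr.leaf [1,1,1]) (Tr.leaf [1,0,2,0,1,0,2,0,1,0,2,0,1,0,1,0,2,0,1,0,2,0,1,0,2,0,1,0,2,0,1,0,1,0,2,0,1,0,2,0,1,0,2,0,1,0,2,0,1,0,1,0,2,0])) (Tr.node (Tr.leaf [0,2,0,2,0,2,0,1,0,1,0,1,0,1,0,1,0,2,0,2,0,2,0,2,0,2,0,2,0,1,0,1,0,1,0,1,0,1,0,2,0,2,0,2]) (Tr.leaf [0,2,0,2,0,2,0,2,0,1,0,2,0,1,0,2,0,2,0,2,0,2,0,1,0,2,0,1,0,2,0,2,0,2,0,2,0,1,0,2,0,1,0,2,0,2,0,2,0,2,0,1,0,2,0,1]))) (Tr.node (Tr.node (Tr.leaf [0,1,0,2,0,2,0,2,0,2,0,2,0,1,0,1,0,1,0,1,0,1,0,1,0,2,0,2,0,2,0,2,0,2,0,1,0,1,0,1,0,1,0,1]) (Tr.leaf [0,2,0,2,0,1,0,2,0,1,0,2,0,1,0,2,0,1,0,2,0,2,0,1,0,2,0,1,0,2,0,1,0,2,0,1,0,2,0,2,0,1,0,2,0,1,0,2,0,1,0,2,0,1])) (Tr.node (Tr.leaf [0,1,0,2,0,1,0,1,0,2,0,1,0,1,0,2,0,1,0,2,0,2,0,1,0,2,0,1,0,1,0,2,0,1,0,1,0,2,0,1,0,2,0,2])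 (Tr.leaf [])))) (Tr.node (Tr.node (Tr.node (Tr.leaf [1,0,1,0,1,0,1,0,1,0,1,0,1,0,1,0,1,0,1,0,1,0,1,0,1,0,1,0,1,0,1,0,1,0,1,0,1,0]) (Tr.leaf [0,2,0,1,0,1,0,2,0,1,0,2,0,1,0,2,0,1,0,2,0,1,0,1,0,2,0,1,0,2,0,1,0,2,0,1,0,2,0,1,0,1,0,2,0,1,0,2,0,1,0,2,0,1])) (Tr.node (Tr.leaf [0,1,0,2,0,1,0,1,0,2,0,1,0,2,0,2,0,1,0,2,0,1,0,1,0,2,0,1,0,1,0,2,0,1,0,2,0,2,0,1,0,2,0,1]) (Tr.leaf [0,1,0,1,0,1,0,1,0,2,0,1,0,2,0,2,0,1,0,2,0,1,0,1,0,1,0,1,0,1,0,2,0,1,0,2,0,2,0,1,0,2,0,1,0,1,0,1,0,1,0,1,0,2,0,1,0,2,0,2,0,1,0,2,0,1]))) (Tr.node (Tr.node (Tr.leaf [0,2,0,2,0,2,0,1,0,1,0,1,0,1,0,1,0,1,0,2,0,2,0,2,0,2,0,2,0,1,0,1,0,1,0,1,0,1,0,1,0,2,0,2]) (Tr.leaf [0,1,0,2,0,1,0,2,0,1,0,1,0,1,0,1,0,2,0,1,0,2,0,1,0,1,0,1,0,1,0,2,0,1,0,2,0,1,0,1,0,1,0,1,0,2,0,1,0,2,0,1,0,1,0,1]))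 (Tr.node (Tr.leaf [0,1,0,2,0,2,0,1,0,2,0,2,0,1,0,2,0,1,0,1,0,2,0,1,0,2,0,2,0,1,0,2,0,2,0,1,0,2,0,1,0,1,0,2]) (Tr.leaf []))))) (Tr.node (Tr.node (Tr.node (Tr.node (Tr.leaf [0,1,0,2,0,1,0,2,0,1,0,2,0,1,0,2,0,1,0,2,0,1,0,2,0,1,0,2,0,1,0,2,0,1,0,2]) (Tr.leaf [1,0,2,0,1,0,1,0,2,0,1,0,2,0,1,0,2,0,1,0,2,0,1,0,1,0,2,0,1,0,2,0,1,0,2,0,1,0,2,0,1,0,1,0,2,0,1,0,2,0,1,0,2,0])) (Tr.node (Tr.leaf [1,0,1,0,1,0,2,0,2,0,2,0,2,0,2,0,2,0,1,0,1,0,1,0,1,0,1,0,2,0,2,0,2,0,2,0,2,0,2,0,1,0,1,0]) (Tr.leaf [1,0,2,0,1,0,2,0,2,0,2,0,2,0,1,0,2,0,1,0,2,0,2,0,2,0,2,0,1,0,2,0,1,0,2,0,2,0,2,0,2,0,1,0,2,0,1,0,2,0,2,0,2,0,2,0]))) (Tr.node (Tr.node (Tr.leaf [0,2,0,2,0,1,0,1,0,1,0,1,0,1,0,1,0,2,0,2,0,2,0,2,0,2,0,1,0,1,0,1,0,1,0,1,0,1,0,2,0,2,0,2])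 (Tr.leaf [0,1,0,2,0,1,0,2,0,2,0,1,0,2,0,1,0,2,0,1,0,2,0,1,0,2,0,2,0,1,0,2,0,1,0,2,0,1,0,2,0,1,0,2,0,2,0,1,0,2,0,1,0,2])) (Tr.node (Tr.leaf [0,1,0,2,0,1,0,1,0,2,0,1,0,1,0,2,0,1,0,2,0,2,0,1,0,2,0,1,0,1,0,2,0,1,0,1,0,2,0,1,0,2,0,2]) (Tr.leaf [])))) (Tr.node (Tr.node (Tr.node (Tr.leaf [0,1,0,1,0,1,0,1,0,1,0,2,0,2,0,2,0,2,0,2,0,1,0,1,0,1,0,1,0,1,0,1,0,2,0,2,0,2,0,2,0,2,0,1]) (Tr.leaf [0,1,0,2,0,1,0,2,0,1,0,2,0,2,0,1,0,2,0,1,0,2,0,1,0,2,0,1,0,2,0,2,0,1,0,2,0,1,0,2,0,1,0,2,0,1,0,2,0,2,0,1,0,2])) (Tr.node (Tr.leaf [0,2,0,1,0,2,0,2,0,1,0,2,0,1,0,1,0,2,0,1,0,1,0,2,0,1,0,2,0,2,0,1,0,2,0,1,0,1,0,2,0,1,0,1]) (Tr.leaf []))) (Tr.node (Tr.node (Tr.leaf [1,0,1,0,2,0,2,0,2,0,2,0,2,0,2,0,1,0,1,0,1,0,1,0,1,0,2,0,2,0,2,0,2,0,2,0,2,0,1,0,1,0,1,0])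 (Tr.leaf [1,0,1,0,2,0,1,0,2,0,1,0,1,0,1,0,1,0,2,0,1,0,2,0,1,0,1,0,1,0,1,0,2,0,1,0,2,0,1,0,1,0,1,0,1,0,2,0,1,0,2,0,1,0,1,0])) (Tr.node (Tr.leaf [2,0,1,0,2,0,2,0,1,0,2,0,2,0,1,0,2,0,1,0,1,0,2,0,1,0,2,0,2,0,1,0,2,0,2,0,1,0,2,0,1,0,1,0]) (Tr.leaf [])))))) (Tr.node (Tr.node (Tr.node (Tr.node (Tr.node (Tr.leaf [0,1,0,2,0,1,0,2,0,1,0,2,0,1,0,2,0,1,0,2,0,1,0,2,0,1,0,2,0,1,0,2,0,1,0,2]) (Tr.leaf [1,0,2,0,1,0,2,0,1,0,1,0,2,0,1,0,2,0,1,0,2,0,1,0,2,0,1,0,1,0,2,0,1,0,2,0,1,0,2,0,1,0,2,0,1,0,1,0,2,0,1,0,2,0])) (Tr.node (Tr.leaf [0,2,0,1,0,1,0,1,0,1,0,1,0,2,0,2,0,2,0,2,0,2,0,2,0,1,0,1,0,1,0,1,0,1,0,2,0,2,0,2,0,2,0,2]) (Tr.leaf [0,2,0,2,0,1,0,2,0,1,0,2,0,2,0,2,0,2,0,1,0,2,0,1,0,2,0,2,0,2,0,2,0,1,0,2,0,1,0,2,0,2,0,2,0,2,0,1,0,2,0,1,0,2,0,2])))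 (Tr.node (Tr.node (Tr.leaf [0,2,0,2,0,2,0,2,0,1,0,1,0,1,0,1,0,1,0,1,0,2,0,2,0,2,0,2,0,2,0,1,0,1,0,1,0,1,0,1,0,1,0,2]) (Tr.leaf [0,1,0,2,0,1,0,2,0,1,0,2,0,1,0,2,0,2,0,1,0,2,0,1,0,2,0,1,0,2,0,1,0,2,0,2,0,1,0,2,0,1,0,2,0,1,0,2,0,1,0,2,0,2])) (Tr.node (Tr.leaf [0,1,0,1,0,2,0,1,0,1,0,2,0,1,0,2,0,2,0,1,0,2,0,1,0,1,0,2,0,1,0,1,0,2,0,1,0,2,0,2,0,1,0,2]) (Tr.leaf [])))) (Tr.node (Tr.node (Tr.node (Tr.leaf [0,2,0,2,0,2,0,2,0,2,0,2,0,2,0,2,0,2,0,2,0,2,0,2,0,2,0,2,0,2,0,2,0,2,0,2,0,2]) (Tr.leaf [0,1,0,2,0,1,0,1,0,2,0,1,0,2,0,1,0,2,0,1,0,2,0,1,0,1,0,2,0,1,0,2,0,1,0,2,0,1,0,2,0,1,0,1,0,2,0,1,0,2,0,1,0,2])) (Tr.node (Tr.leaf [0,1,0,1,0,2,0,1,0,2,0,2,0,1,0,2,0,1,0,1,0,2,0,1,0,1,0,2,0,1,0,2,0,2,0,1,0,2,0,1,0,1,0,2])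 (Tr.leaf [1,2]))) (Tr.node (Tr.node (Tr.leaf [0,1,0,1,0,1,0,1,0,2,0,2,0,2,0,2,0,2,0,2,0,1,0,1,0,1,0,1,0,1,0,2,0,2,0,2,0,2,0,2,0,2,0,1]) (Tr.leaf [1,0,2,0,1,0,1,0,1,0,1,0,2,0,1,0,2,0,1,0,1,0,1,0,1,0,2,0,1,0,2,0,1,0,1,0,1,0,1,0,2,0,1,0,2,0,1,0,1,0,1,0,1,0,2,0])) (Tr.node (Tr.leaf [0,2,0,2,0,1,0,2,0,1,0,1,0,2,0,1,0,2,0,2,0,1,0,2,0,2,0,1,0,2,0,1,0,1,0,2,0,1,0,2,0,2,0,1]) (Tr.leaf []))))) (Tr.node (Tr.node (Tr.node (Tr.node (Tr.leaf [2,0,1,0,2,0,1,0,2,0,1,0,2,0,1,0,2,0,1,0,2,0,1,0,2,0,1,0,2,0,1,0,2,0,1,0]) (Tr.leaf [1,0,2,0,1,0,2,0,1,0,2,0,1,0,1,0,2,0,1,0,2,0,1,0,2,0,1,0,2,0,1,0,1,0,2,0,1,0,2,0,1,0,2,0,1,0,2,0,1,0,1,0,2,0])) (Tr.node (Tr.leaf [0,2,0,2,0,1,0,1,0,1,0,1,0,1,0,2,0,2,0,2,0,2,0,2,0,2,0,1,0,1,0,1,0,1,0,1,0,2,0,2,0,2,0,2])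 (Tr.leaf [1,0,1,0,1,0,1,0,1,0,2,0,1,0,2,0,2,0,1,0,2,0,1,0,1,0,1,0,1,0,1,0,2,0,1,0,2,0,2,0,1,0,2,0,1,0,1,0,1,0,1,0,1,0,2,0,1,0,2,0,2,0,1,0,2,0]))) (Tr.node (Tr.node (Tr.leaf [0,1,0,1,0,1,0,1,0,1,0,1,0,2,0,2,0,2,0,2,0,2,0,1,0,1,0,1,0,1,0,1,0,1,0,2,0,2,0,2,0,2,0,2]) (Tr.leaf [1,0,1,0,1,0,1,0,2,0,1,0,2,0,1,0,1,0,1,0,1,0,2,0,1,0,2,0,1,0,1,0,1,0,1,0,2,0,1,0,2,0,1,0,1,0,1,0,1,0,2,0,1,0,2,0])) (Tr.node (Tr.leaf [0,1,0,2,0,1,0,2,0,2,0,1,0,2,0,2,0,1,0,2,0,1,0,1,0,2,0,1,0,2,0,2,0,1,0,2,0,2,0,1,0,2,0,1]) (Tr.leaf [])))) (Tr.node (Tr.node (Tr.node (Tr.leaf [0,1,0,1,0,1,0,2,0,2,0,2,0,2,0,2,0,1,0,1,0,1,0,1,0,1,0,1,0,2,0,2,0,2,0,2,0,2,0,1,0,1,0,1]) (Tr.leaf [0,2,0,1,0,2,0,2,0,1,0,2,0,1,0,2,0,1,0,2,0,1,0,2,0,2,0,1,0,2,0,1,0,2,0,1,0,2,0,1,0,2,0,2,0,1,0,2,0,1,0,2,0,1]))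 (Tr.node (Tr.leaf [0,2,0,2,0,1,0,2,0,1,0,1,0,2,0,1,0,1,0,2,0,1,0,2,0,2,0,1,0,2,0,1,0,1,0,2,0,1,0,1,0,2,0,1]) (Tr.leaf []))) (Tr.node (Tr.node (Tr.leaf [0,2,0,2,0,2,0,2,0,2,0,1,0,1,0,1,0,1,0,1,0,2,0,2,0,2,0,2,0,2,0,2,0,1,0,1,0,1,0,1,0,1,0,2]) (Tr.leaf [0,2,0,1,0,1,0,1,0,1,0,2,0,1,0,2,0,1,0,1,0,1,0,1,0,2,0,1,0,2,0,1,0,1,0,1,0,1,0,2,0,1,0,2,0,1,0,1,0,1,0,1,0,2,0,1])) (Tr.node (Tr.leaf [1,0,2,0,1,0,2,0,1,0,2,0,1,0,2,0,1,0,1,0,2,0,1,0,2,0,1,0,2,0,1,0,2,0,1,0,1,0,2,0,1,0,2,0,1,0,2,0,1,0,2,0,1,0]) (Tr.leaf []))))))) (Tr.node (Tr.node (Tr.node (Tr.node (Tr.node (Tr.node (Tr.leaf [2,2,2]) (Tr.leaf [2,0,1,0,2,0,1,0,2,0,1,0,1,0,2,0,1,0,2,0,1,0,2,0,1,0,2,0,1,0,1,0,2,0,1,0,2,0,1,0,2,0,1,0,2,0,1,0,1,0,2,0,1,0]))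 (Tr.node (Tr.leaf [0,2,0,2,0,1,0,1,0,1,0,1,0,1,0,2,0,2,0,2,0,2,0,2,0,2,0,1,0,1,0,1,0,1,0,1,0,2,0,2,0,2,0,2]) (Tr.leaf [0,2,0,2,0,2,0,1,0,2,0,1,0,2,0,2,0,2,0,2,0,1,0,2,0,1,0,2,0,2,0,2,0,2,0,1,0,2,0,1,0,2,0,2,0,2,0,2,0,1,0,2,0,1,0,2]))) (Tr.node (Tr.node (Tr.leaf [0,2,0,2,0,2,0,2,0,2,0,1,0,1,0,1,0,1,0,1,0,1,0,2,0,2,0,2,0,2,0,2,0,1,0,1,0,1,0,1,0,1,0,1]) (Tr.leaf [0,2,0,1,0,2,0,1,0,2,0,1,0,2,0,1,0,2,0,2,0,1,0,2,0,1,0,2,0,1,0,2,0,1,0,2,0,2,0,1,0,2,0,1,0,2,0,1,0,2,0,1,0,2])) (Tr.node (Tr.leaf [0,2,0,1,0,1,0,2,0,1,0,1,0,2,0,1,0,2,0,2,0,1,0,2,0,1,0,1,0,2,0,1,0,1,0,2,0,1,0,2,0,2,0,1]) (Tr.leaf [])))) (Tr.node (Tr.node (Tr.node (Tr.leaf [0,1,0,1,0,1,0,1,0,1,0,1,0,1,0,1,0,1,0,1,0,1,0,1,0,1,0,1,0,1,0,1,0,1,0,1,0,1])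 (Tr.leaf [2,0,1,0,2,0,1,0,2,0,1,0,1,0,2,0,1,0,2,0,1,0,2,0,1,0,2,0,1,0,1,0,2,0,1,0,2,0,1,0,2,0,1,0,2,0,1,0,1,0,2,0,1,0])) (Tr.node (Tr.leaf [0,2,0,1,0,1,0,2,0,1,0,2,0,2,0,1,0,2,0,1,0,1,0,2,0,1,0,1,0,2,0,1,0,2,0,2,0,1,0,2,0,1,0,1]) (Tr.leaf [0,1,0,2,0,1,0,1,0,2,0,1,0,2,0,2,0,2,0,2,0,2,0,1,0,2,0,1,0,1,0,2,0,1,0,2,0,2,0,2,0,2,0,2,0,1,0,2,0,1,0,1,0,2,0,1,0,2,0,2,0,2,0,2,0,2]))) (Tr.node (Tr.node (Tr.leaf [2,0,1,0,1,0,1,0,1,0,1,0,1,0,2,0,2,0,2,0,2,0,2,0,1,0,1,0,1,0,1,0,1,0,1,0,2,0,2,0,2,0,2,0]) (Tr.leaf [2,0,1,0,2,0,1,0,1,0,1,0,1,0,2,0,1,0,2,0,1,0,1,0,1,0,1,0,2,0,1,0,2,0,1,0,1,0,1,0,1,0,2,0,1,0,2,0,1,0,1,0,1,0,1,0])) (Tr.node (Tr.leaf [0,2,0,1,0,2,0,2,0,1,0,2,0,1,0,1,0,2,0,1,0,2,0,2,0,1,0,2,0,2,0,1,0,2,0,1,0,1,0,2,0,1,0,2])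 (Tr.leaf []))))) (Tr.node (Tr.node (Tr.node (Tr.node (Tr.leaf [1,0,2,0,1,0,2,0,1,0,2,0,1,0,2,0,1,0,2,0,1,0,2,0,1,0,2,0,1,0,2,0,1,0,2,0]) (Tr.leaf [2,0,1,0,1,0,2,0,1,0,2,0,1,0,2,0,1,0,2,0,1,0,1,0,2,0,1,0,2,0,1,0,2,0,1,0,2,0,1,0,1,0,2,0,1,0,2,0,1,0,2,0,1,0])) (Tr.node (Tr.leaf [0,2,0,2,0,2,0,2,0,1,0,1,0,1,0,1,0,1,0,2,0,2,0,2,0,2,0,2,0,2,0,1,0,1,0,1,0,1,0,1,0,2,0,2]) (Tr.leaf [2,0,2,0,1,0,2,0,1,0,2,0,2,0,2,0,2,0,1,0,2,0,1,0,2,0,2,0,2,0,2,0,1,0,2,0,1,0,2,0,2,0,2,0,2,0,1,0,2,0,1,0,2,0,2,0]))) (Tr.node (Tr.node (Tr.leaf [0,2,0,1,0,1,0,1,0,1,0,1,0,1,0,2,0,2,0,2,0,2,0,2,0,1,0,1,0,1,0,1,0,1,0,1,0,2,0,2,0,2,0,2]) (Tr.leaf [1,0,2,0,1,0,2,0,2,0,1,0,2,0,1,0,2,0,1,0,2,0,1,0,2,0,2,0,1,0,2,0,1,0,2,0,1,0,2,0,1,0,2,0,2,0,1,0,2,0,1,0,2,0]))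 (Tr.node (Tr.leaf [2,0,1,0,1,0,2,0,1,0,2,0,2,0,1,0,2,0,2,0,1,0,2,0,1,0,1,0,2,0,1,0,2,0,2,0,1,0,2,0,2,0,1,0]) (Tr.leaf [])))) (Tr.node (Tr.node (Tr.node (Tr.leaf [0,1,0,1,0,1,0,1,0,2,0,2,0,2,0,2,0,2,0,1,0,1,0,1,0,1,0,1,0,1,0,2,0,2,0,2,0,2,0,2,0,1,0,1]) (Tr.leaf [0,1,0,2,0,1,0,2,0,2,0,1,0,2,0,1,0,2,0,1,0,2,0,1,0,2,0,2,0,1,0,2,0,1,0,2,0,1,0,2,0,1,0,2,0,2,0,1,0,2,0,1,0,2])) (Tr.node (Tr.leaf [0,1,0,2,0,2,0,1,0,2,0,1,0,1,0,2,0,1,0,1,0,2,0,1,0,2,0,2,0,1,0,2,0,1,0,1,0,2,0,1,0,1,0,2]) (Tr.leaf []))) (Tr.node (Tr.node (Tr.leaf [0,2,0,2,0,2,0,2,0,2,0,2,0,1,0,1,0,1,0,1,0,1,0,2,0,2,0,2,0,2,0,2,0,2,0,1,0,1,0,1,0,1,0,1]) (Tr.leaf [0,1,0,2,0,1,0,2,0,1,0,1,0,1,0,1,0,2,0,1,0,2,0,1,0,1,0,1,0,1,0,2,0,1,0,2,0,1,0,1,0,1,0,1,0,2,0,1,0,2,0,1,0,1,0,1]))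 (Tr.node (Tr.leaf [0,2,0,2,0,1,0,2,0,1,0,1,0,2,0,1,0,2,0,2,0,1,0,2,0,2,0,1,0,2,0,1,0,1,0,2,0,1,0,2,0,2,0,1]) (Tr.leaf [])))))) (Tr.node (Tr.node (Tr.node (Tr.node (Tr.node (Tr.leaf [0,2,0,1,0,2,0,1,0,2,0,1,0,2,0,1,0,2,0,1,0,2,0,1,0,2,0,1,0,2,0,1,0,2,0,1]) (Tr.leaf [2,0,1,0,2,0,1,0,1,0,2,0,1,0,2,0,1,0,2,0,1,0,2,0,1,0,1,0,2,0,1,0,2,0,1,0,2,0,1,0,2,0,1,0,1,0,2,0,1,0,2,0,1,0])) (Tr.node (Tr.leaf [1,0,1,0,1,0,1,0,1,0,2,0,2,0,2,0,2,0,2,0,2,0,1,0,1,0,1,0,1,0,1,0,2,0,2,0,2,0,2,0,2,0,2,0]) (Tr.leaf [2,0,1,0,2,0,1,0,2,0,2,0,2,0,2,0,1,0,2,0,1,0,2,0,2,0,2,0,2,0,1,0,2,0,1,0,2,0,2,0,2,0,2,0,1,0,2,0,1,0,2,0,2,0,2,0]))) (Tr.node (Tr.node (Tr.leaf [0,2,0,2,0,2,0,1,0,1,0,1,0,1,0,1,0,1,0,2,0,2,0,2,0,2,0,2,0,1,0,1,0,1,0,1,0,1,0,1,0,2,0,2])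 (Tr.leaf [0,2,0,1,0,2,0,1,0,2,0,1,0,2,0,2,0,1,0,2,0,1,0,2,0,1,0,2,0,1,0,2,0,2,0,1,0,2,0,1,0,2,0,1,0,2,0,1,0,2,0,2,0,1])) (Tr.node (Tr.leaf [1,0,1,0,2,0,1,0,2,0,2,0,1,0,2,0,1,0,1,0,2,0,1,0,1,0,2,0,1,0,2,0,2,0,1,0,2,0,1,0,1,0,2,0]) (Tr.leaf [])))) (Tr.node (Tr.node (Tr.node (Tr.leaf [2,0,2,0,2,0,2,0,2,0,2,0,2,0,2,0,2,0,2,0,2,0,2,0,2,0,2,0,2,0,2,0,2,0,2,0,2,0]) (Tr.leaf [0,2,0,1,0,2,0,1,0,2,0,1,0,2,0,2,0,1,0,2,0,1,0,2,0,1,0,2,0,1,0,2,0,2,0,1,0,2,0,1,0,2,0,1,0,2,0,1,0,2,0,2,0,1])) (Tr.node (Tr.leaf [0,1,0,2,0,1,0,2,0,2,0,1,0,2,0,1,0,1,0,2,0,1,0,1,0,2,0,1,0,2,0,2,0,1,0,2,0,1,0,1,0,2,0,1]) (Tr.leaf []))) (Tr.node (Tr.node (Tr.leaf [1,0,1,0,1,0,2,0,2,0,2,0,2,0,2,0,2,0,1,0,1,0,1,0,1,0,1,0,2,0,2,0,2,0,2,0,2,0,2,0,1,0,1,0])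 (Tr.leaf [0,1,0,1,0,1,0,1,0,2,0,1,0,2,0,1,0,1,0,1,0,1,0,2,0,1,0,2,0,1,0,1,0,1,0,1,0,2,0,1,0,2,0,1,0,1,0,1,0,1,0,2,0,1,0,2])) (Tr.node (Tr.leaf [0,2,0,1,0,2,0,1,0,1,0,2,0,1,0,2,0,2,0,1,0,2,0,2,0,1,0,2,0,1,0,1,0,2,0,1,0,2,0,2,0,1,0,2]) (Tr.leaf []))))) (Tr.node (Tr.node (Tr.node (Tr.node (Tr.leaf [2,0,1,0,2,0,1,0,2,0,1,0,2,0,1,0,2,0,1,0,2,0,1,0,2,0,1,0,2,0,1,0,2,0,1,0]) (Tr.leaf [0,1,0,2,0,1,0,2,0,1,0,1,0,2,0,1,0,2,0,1,0,2,0,1,0,2,0,1,0,1,0,2,0,1,0,2,0,1,0,2,0,1,0,2,0,1,0,1,0,2,0,1,0,2])) (Tr.node (Tr.leaf [0,1,0,1,0,2,0,1,0,1,0,2,0,1,0,2,0,2,0,1,0,2,0,1,0,1,0,2,0,1,0,1,0,2,0,1,0,2,0,2,0,1,0,2]) (Tr.leaf [0,1,0,2,0,2,0,1,0,2,0,1,0,1,0,1,0,1,0,1,0,2,0,1,0,2,0,2,0,1,0,2,0,1,0,1,0,1,0,1,0,1,0,2,0,1,0,2,0,2,0,1,0,2,0,1,0,1,0,1,0,1,0,1,0,2])))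 (Tr.node (Tr.node (Tr.leaf [0,1,0,1,0,1,0,1,0,2,0,2,0,2,0,2,0,2,0,1,0,1,0,1,0,1,0,1,0,1,0,2,0,2,0,2,0,2,0,2,0,1,0,1]) (Tr.leaf [1,0,1,0,1,0,2,0,1,0,2,0,1,0,1,0,1,0,1,0,2,0,1,0,2,0,1,0,1,0,1,0,1,0,2,0,1,0,2,0,1,0,1,0,1,0,1,0,2,0,1,0,2,0,1,0])) (Tr.node (Tr.leaf [0,2,0,1,0,2,0,2,0,1,0,2,0,2,0,1,0,2,0,1,0,1,0,2,0,1,0,2,0,2,0,1,0,2,0,2,0,1,0,2,0,1,0,1]) (Tr.leaf [])))) (Tr.node (Tr.node (Tr.node (Tr.leaf [0,1,0,1,0,2,0,2,0,2,0,2,0,2,0,1,0,1,0,1,0,1,0,1,0,1,0,2,0,2,0,2,0,2,0,2,0,1,0,1,0,1,0,1]) (Tr.leaf [0,1,0,2,0,2,0,1,0,2,0,1,0,2,0,1,0,2,0,1,0,2,0,2,0,1,0,2,0,1,0,2,0,1,0,2,0,1,0,2,0,2,0,1,0,2,0,1,0,2,0,1,0,2])) (Tr.node (Tr.leaf [0,2,0,1,0,2,0,1,0,1,0,2,0,1,0,1,0,2,0,1,0,2,0,2,0,1,0,2,0,1,0,1,0,2,0,1,0,1,0,2,0,1,0,2])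 (Tr.leaf []))) (Tr.node (Tr.node (Tr.leaf [0,2,0,2,0,2,0,2,0,1,0,1,0,1,0,1,0,1,0,2,0,2,0,2,0,2,0,2,0,2,0,1,0,1,0,1,0,1,0,1,0,2,0,2]) (Tr.leaf [2,0,1,0,2,0,2,0,2,0,2,0,1,0,2,0,1,0,2,0,2,0,2,0,2,0,1,0,2,0,1,0,2,0,2,0,2,0,2,0,1,0,2,0,1,0,2,0,2,0,2,0,2,0,1,0])) (Tr.node (Tr.leaf [2,0,1,0,2,0,1,0,2,0,1,0,2,0,1,0,1,0,2,0,1,0,2,0,1,0,2,0,1,0,2,0,1,0,1,0,2,0,1,0,2,0,1,0,2,0,1,0,2,0,1,0,1,0]) (Tr.leaf [])))))))))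

/-- The witnesses of the rotations. -/
noncomputable def witT : Tr (Nat × Nat × Bool) := (Tr.node (Tr.node (Tr.node (Tr.node (Tr.node (Tr.node (Tr.node (Tr.node (Tr.leaf (0,0,false)) (Tr.leaf (6,6,false))) (Tr.node (Tr.leaf (4,14,true)) (Tr.leaf (7,4,true)))) (Tr.node (Tr.node (Tr.leaf (4,9,false)) (Tr.leaf (6,12,true))) (Tr.node (Tr.leaf (5,17,false)) (Tr.leaf (0,0,false))))) (Tr.node (Tr.node (Tr.node (Tr.leaf (2,1,false)) (Tr.leaf (6,29,false))) (Tr.node (Tr.leaf (5,1,false)) (Tr.leaf (8,36,false)))) (Tr.node (Tr.node (Tr.leaf (4,27,false)) (Tr.leaf (7,4,false))) (Tr.node (Tr.leaf (5,8,true)) (Tr.leaf (0,0,false)))))) (Tr.node (Tr.node (Tr.node (Tr.node (Tr.leaf (3,3,false))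 (Tr.leaf (6,14,false))) (Tr.node (Tr.leaf (4,24,true)) (Tr.leaf (7,13,true)))) (Tr.node (Tr.node (Tr.leaf (4,17,false)) (Tr.leaf (6,22,true))) (Tr.node (Tr.leaf (5,34,false)) (Tr.leaf (0,0,false))))) (Tr.node (Tr.node (Tr.node (Tr.leaf (4,1,false)) (Tr.leaf (6,2,true))) (Tr.node (Tr.leaf (5,9,false)) (Tr.leaf (0,0,false)))) (Tr.node (Tr.node (Tr.leaf (4,5,true)) (Tr.leaf (7,18,false))) (Tr.node (Tr.leaf (5,22,true)) (Tr.leaf (0,0,false))))))) (Tr.node (Tr.node (Tr.node (Tr.node (Tr.node (Tr.leaf (1,2,true)) (Tr.leaf (6,10,false))) (Tr.node (Tr.leaf (4,18,true)) (Tr.leaf (7,8,true)))) (Tr.node (Tr.node (Tr.leaf (4,13,false)) (Tr.leaf (6,16,true))) (Tr.node (Tr.leaf (5,21,false))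 (Tr.leaf (0,0,false))))) (Tr.node (Tr.node (Tr.node (Tr.leaf (2,1,true)) (Tr.leaf (6,46,false))) (Tr.node (Tr.leaf (5,5,false)) (Tr.leaf (9,0,false)))) (Tr.node (Tr.node (Tr.leaf (4,0,true)) (Tr.leaf (7,10,false))) (Tr.node (Tr.leaf (5,14,true)) (Tr.leaf (0,0,false)))))) (Tr.node (Tr.node (Tr.node (Tr.node (Tr.leaf (3,23,false)) (Tr.leaf (6,18,false))) (Tr.node (Tr.leaf (4,37,true)) (Tr.leaf (7,44,true)))) (Tr.node (Tr.node (Tr.leaf (4,21,false)) (Tr.leaf (6,46,true))) (Tr.node (Tr.leaf (5,3,true)) (Tr.leaf (0,0,false))))) (Tr.node (Tr.node (Tr.node (Tr.leaf (4,5,false)) (Tr.leaf (6,8,true))) (Tr.node (Tr.leaf (5,13,false)) (Tr.leaf (0,0,false)))) (Tr.node (Tr.node (Tr.leaf (4,10,true))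 (Tr.leaf (7,39,false))) (Tr.node (Tr.leaf (6,2,false)) (Tr.leaf (0,0,false)))))))) (Tr.node (Tr.node (Tr.node (Tr.node (Tr.node (Tr.node (Tr.leaf (1,2,false)) (Tr.leaf (6,8,false))) (Tr.node (Tr.leaf (4,16,true)) (Tr.leaf (7,6,true)))) (Tr.node (Tr.node (Tr.leaf (4,11,false)) (Tr.leaf (6,14,true))) (Tr.node (Tr.leaf (5,19,false)) (Tr.leaf (0,0,false))))) (Tr.node (Tr.node (Tr.node (Tr.leaf (2,4,false)) (Tr.leaf (6,36,false))) (Tr.node (Tr.leaf (5,3,false)) (Tr.leaf (8,49,false)))) (Tr.node (Tr.node (Tr.leaf (4,39,false)) (Tr.leaf (7,7,false))) (Tr.node (Tr.leaf (5,10,true)) (Tr.leaf (0,0,false)))))) (Tr.node (Tr.node (Tr.node (Tr.node (Tr.leaf (3,5,false)) (Tr.leaf (6,16,false)))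 (Tr.node (Tr.leaf (4,29,true)) (Tr.leaf (7,35,true)))) (Tr.node (Tr.node (Tr.leaf (4,19,false)) (Tr.leaf (6,37,true))) (Tr.node (Tr.leaf (5,1,true)) (Tr.leaf (0,0,false))))) (Tr.node (Tr.node (Tr.node (Tr.leaf (4,3,false)) (Tr.leaf (6,6,true))) (Tr.node (Tr.leaf (5,11,false)) (Tr.leaf (0,0,false)))) (Tr.node (Tr.node (Tr.leaf (4,8,true)) (Tr.leaf (7,26,false))) (Tr.node (Tr.leaf (5,35,true)) (Tr.leaf (0,0,false))))))) (Tr.node (Tr.node (Tr.node (Tr.node (Tr.node (Tr.leaf (3,1,false)) (Tr.leaf (6,12,false))) (Tr.node (Tr.leaf (4,21,true)) (Tr.leaf (7,10,true)))) (Tr.node (Tr.node (Tr.leaf (4,15,false)) (Tr.leaf (6,18,true))) (Tr.node (Tr.leaf (5,26,false)) (Tr.leaf (0,0,false)))))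 (Tr.node (Tr.node (Tr.node (Tr.leaf (2,27,true)) (Tr.leaf (6,53,false))) (Tr.node (Tr.leaf (5,7,false)) (Tr.leaf (9,2,false)))) (Tr.node (Tr.node (Tr.leaf (4,2,true)) (Tr.leaf (7,12,false))) (Tr.node (Tr.leaf (5,18,true)) (Tr.leaf (0,0,false)))))) (Tr.node (Tr.node (Tr.node (Tr.node (Tr.leaf (3,31,false)) (Tr.leaf (6,26,false))) (Tr.node (Tr.leaf (4,40,true)) (Tr.leaf (8,4,false)))) (Tr.node (Tr.node (Tr.leaf (4,25,false)) (Tr.leaf (7,2,false))) (Tr.node (Tr.leaf (5,6,true)) (Tr.leaf (0,0,false))))) (Tr.node (Tr.node (Tr.node (Tr.leaf (4,7,false)) (Tr.leaf (6,10,true))) (Tr.node (Tr.leaf (5,15,false)) (Tr.leaf (0,0,false)))) (Tr.node (Tr.node (Tr.leaf (4,12,true)) (Tr.leaf (7,1,true)))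 (Tr.node (Tr.leaf (6,4,false)) (Tr.leaf (0,0,false))))))))) (Tr.node (Tr.node (Tr.node (Tr.node (Tr.node (Tr.node (Tr.node (Tr.leaf (1,1,false)) (Tr.leaf (6,7,false))) (Tr.node (Tr.leaf (4,15,true)) (Tr.leaf (7,5,true)))) (Tr.node (Tr.node (Tr.leaf (4,10,false)) (Tr.leaf (6,13,true))) (Tr.node (Tr.leaf (5,18,false)) (Tr.leaf (0,0,false))))) (Tr.node (Tr.node (Tr.node (Tr.leaf (2,2,false)) (Tr.leaf (6,34,false))) (Tr.node (Tr.leaf (5,2,false)) (Tr.leaf (8,46,false)))) (Tr.node (Tr.node (Tr.leaf (4,38,false)) (Tr.leaf (7,6,false))) (Tr.node (Tr.leaf (5,9,true)) (Tr.leaf (0,0,false)))))) (Tr.node (Tr.node (Tr.node (Tr.node (Tr.leaf (3,4,false)) (Tr.leaf (6,15,false))) (Tr.node (Tr.leaf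 (4,26,true)) (Tr.leaf (7,14,true)))) (Tr.node (Tr.node (Tr.leaf (4,18,false)) (Tr.leaf (6,25,true))) (Tr.node (Tr.leaf (5,40,false)) (Tr.leaf (0,0,false))))) (Tr.node (Tr.node (Tr.node (Tr.leaf (4,2,false)) (Tr.leaf (6,3,true))) (Tr.node (Tr.leaf (5,10,false)) (Tr.leaf (0,0,false)))) (Tr.node (Tr.node (Tr.leaf (4,6,true)) (Tr.leaf (7,19,false))) (Tr.node (Tr.leaf (5,30,true)) (Tr.leaf (0,0,false))))))) (Tr.node (Tr.node (Tr.node (Tr.node (Tr.node (Tr.leaf (3,0,false)) (Tr.leaf (6,11,false))) (Tr.node (Tr.leaf (4,19,true)) (Tr.leaf (7,9,true)))) (Tr.node (Tr.node (Tr.leaf (4,14,false)) (Tr.leaf (6,17,true))) (Tr.node (Tr.leaf (5,22,false)) (Tr.leaf (0,0,false))))) (Tr.node (Tr.node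 (Tr.node (Tr.leaf (2,2,true)) (Tr.leaf (6,50,false))) (Tr.node (Tr.leaf (5,6,false)) (Tr.leaf (9,1,false)))) (Tr.node (Tr.node (Tr.leaf (4,1,true)) (Tr.leaf (7,11,false))) (Tr.node (Tr.leaf (5,17,true)) (Tr.leaf (0,0,false)))))) (Tr.node (Tr.node (Tr.node (Tr.node (Tr.leaf (3,27,false)) (Tr.leaf (6,25,false))) (Tr.node (Tr.leaf (4,39,true)) (Tr.leaf (8,1,false)))) (Tr.node (Tr.node (Tr.leaf (4,22,false)) (Tr.leaf (7,1,false))) (Tr.node (Tr.leaf (5,5,true)) (Tr.leaf (0,0,false))))) (Tr.node (Tr.node (Tr.node (Tr.leaf (4,6,false)) (Tr.leaf (6,9,true))) (Tr.node (Tr.leaf (5,14,false)) (Tr.leaf (0,0,false)))) (Tr.node (Tr.node (Tr.leaf (4,11,true)) (Tr.leaf (7,54,false))) (Tr.node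 (Tr.leaf (6,3,false)) (Tr.leaf (0,0,false)))))))) (Tr.node (Tr.node (Tr.node (Tr.node (Tr.node (Tr.node (Tr.leaf (1,1,true)) (Tr.leaf (6,9,false))) (Tr.node (Tr.leaf (4,17,true)) (Tr.leaf (7,7,true)))) (Tr.node (Tr.node (Tr.leaf (4,12,false)) (Tr.leaf (6,15,true))) (Tr.node (Tr.leaf (5,20,false)) (Tr.leaf (0,0,false))))) (Tr.node (Tr.node (Tr.node (Tr.leaf (2,21,false)) (Tr.leaf (6,45,false))) (Tr.node (Tr.leaf (5,4,false)) (Tr.leaf (8,21,true)))) (Tr.node (Tr.node (Tr.leaf (4,43,false)) (Tr.leaf (7,9,false))) (Tr.node (Tr.leaf (5,13,true)) (Tr.leaf (0,0,false)))))) (Tr.node (Tr.node (Tr.node (Tr.node (Tr.leaf (3,13,false)) (Tr.leaf (6,17,false))) (Tr.node (Tr.leaf (4,35,true))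 (Tr.leaf (7,38,true)))) (Tr.node (Tr.node (Tr.leaf (4,20,false)) (Tr.leaf (6,44,true))) (Tr.node (Tr.leaf (5,2,true)) (Tr.leaf (0,0,false))))) (Tr.node (Tr.node (Tr.node (Tr.leaf (4,4,false)) (Tr.leaf (6,7,true))) (Tr.node (Tr.leaf (5,12,false)) (Tr.leaf (0,0,false)))) (Tr.node (Tr.node (Tr.leaf (4,9,true)) (Tr.leaf (7,34,false))) (Tr.node (Tr.leaf (5,39,true)) (Tr.leaf (0,0,false))))))) (Tr.node (Tr.node (Tr.node (Tr.node (Tr.node (Tr.leaf (3,2,false)) (Tr.leaf (6,13,false))) (Tr.node (Tr.leaf (4,22,true)) (Tr.leaf (7,12,true)))) (Tr.node (Tr.node (Tr.leaf (4,16,false)) (Tr.leaf (6,19,true))) (Tr.node (Tr.leaf (5,29,false)) (Tr.leaf (0,0,false))))) (Tr.node (Tr.node (Tr.node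 (Tr.leaf (2,29,true)) (Tr.leaf (6,1,true))) (Tr.node (Tr.leaf (5,8,false)) (Tr.leaf (0,0,false)))) (Tr.node (Tr.node (Tr.leaf (4,4,true)) (Tr.leaf (7,14,false))) (Tr.node (Tr.leaf (5,19,true)) (Tr.leaf (0,0,false)))))) (Tr.node (Tr.node (Tr.node (Tr.node (Tr.leaf (3,35,false)) (Tr.leaf (6,28,false))) (Tr.node (Tr.leaf (5,0,false)) (Tr.leaf (8,12,false)))) (Tr.node (Tr.node (Tr.leaf (4,26,false)) (Tr.leaf (7,3,false))) (Tr.node (Tr.leaf (5,7,true)) (Tr.leaf (0,0,false))))) (Tr.node (Tr.node (Tr.node (Tr.leaf (4,8,false)) (Tr.leaf (6,11,true))) (Tr.node (Tr.leaf (5,16,false)) (Tr.leaf (0,0,false)))) (Tr.node (Tr.node (Tr.leaf (4,13,true)) (Tr.leaf (7,2,true))) (Tr.node (Tr.leaf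 (6,5,false)) (Tr.leaf (0,0,false))))))))))

/-- The subgroup rotations. -/
noncomputable def srotT : Tr (List Nat × Nat × List Nat) := (Tr.node (Tr.node (Tr.leaf ([0,1,0,2,0,1,0,1,0,1,0,1,0],2,[])) (Tr.leaf ([0,2,0,1,0,2,0,2,0,1],0,[2,0,1,0,1,0,2,0,1,0]))) (Tr.node (Tr.leaf ([0,1,0,1,0,2,0,1,0,2],0,[1,0,2,0,1,0,2,0,2,0])) (Tr.leaf ([],0,[]))))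

/-- The certificate. -/
noncomputable def cert : Cert :=
  mkCert 3 28244 77127 7 215 218 5 31 222 47 141 205 140737488355327 18446744073709551615 17 15 131071 32767 32 30 3 ctree.get rotT.get srotT.get

/-- The relators. -/
def rels : List (List Nat) :=
  [[0,0],
   [1,1,1],
   [1,0,1,0,1,0,1,0,1,0,1,0,1,0,1,0,1,0,1,0,1,0,1,0,1,0,1,0,1,0,1,0,1,0,1,0,1,0],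
   [0,1,0,2,0,1,0,2,0,1,0,2,0,1,0,2,0,1,0,2,0,1,0,2,0,1,0,2,0,1,0,2,0,1,0,2],
   [0,1,0,1,0,1,0,1,0,1,0,1,0,2,0,2,0,2,0,2,0,2,0,1,0,1,0,1,0,1,0,1,0,1,0,2,0,2,0,2,0,2,0,2],
   [0,1,0,1,0,2,0,1,0,1,0,2,0,1,0,2,0,2,0,1,0,2,0,1,0,1,0,2,0,1,0,1,0,2,0,1,0,2,0,2,0,1,0,2],
   [0,1,0,1,0,2,0,1,0,2,0,1,0,2,0,1,0,2,0,1,0,1,0,2,0,1,0,2,0,1,0,2,0,1,0,2,0,1,0,1,0,2,0,1,0,2,0,1,0,2,0,1,0,2],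
   [0,1,0,1,0,1,0,1,0,2,0,1,0,2,0,1,0,1,0,1,0,1,0,2,0,1,0,2,0,1,0,1,0,1,0,1,0,2,0,1,0,2,0,1,0,1,0,1,0,1,0,2,0,1,0,2],
   [0,1,0,1,0,1,0,1,0,1,0,2,0,1,0,2,0,2,0,1,0,2,0,1,0,1,0,1,0,1,0,1,0,2,0,1,0,2,0,2,0,1,0,2,0,1,0,1,0,1,0,1,0,1,0,2,0,1,0,2,0,2,0,1,0,2]]

/-- The words of the subgroup. -/
def subs : List (List Nat) :=
  [[0,1,0,2,0,1,0,1,0,1,0,1,0,2],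
   [0,1,0,1,0,2,0,1,0,2,0,1,0,2,0,1,0,2,0,2,0],
   [0,2,0,1,0,2,0,2,0,1,0,2,0,1,0,1,0,2,0,1,0]]

end Cfsg.Agent.Lib.CosetCert.D.J3.Lv0.Tab
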